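import Mathlib
import Groth.Prelude.Def_MoreMor

/-!
# Finite type along thickenings with finitely generated nilpotent ideal
-/

set_option autoImplicit false
set_option linter.style.haveILetI false

universe u

open CategoryTheory CategoryTheory.Limits AlgebraicGeometry

namespace GrothLib.ThickFT6

theorem finiteType_of_nilpotent {A B C : Type u} [CommRing A] [CommRing B] [CommRing C] (φ : A →+* B) (ψ : B →+* C)
    (hψ : Function.Surjective ψ) (hn : IsNilpotent (RingHom.ker ψ)) (hfg : (RingHom.ker ψ).FG)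
    (h : (ψ.comp φ).FiniteType) : φ.FiniteType := by
  classical
  letI := φ.toAlgebra
  letI := (ψ.comp φ).toAlgebra
  obtain ⟨G, hG⟩ := (h : Algebra.FiniteType A C).out
  obtain ⟨H, hH⟩ := hfg
  choose l hl using hψ
  let B' := Algebra.adjoin A ((G.image l ∪ H : Finset B) : Set B)
  have hHB : (H : Set B) ⊆ B' := fun x hx => Algebra.subset_adjoin (Finset.mem_union_right _ hx)
  let ψ' : B →ₐ[A] C := { ψ with commutes' := fun _ => rfl }
  have hlift : ∀ c : C, ∃ b ∈ B', ψ b = c := by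
    intro c
    have hle : Algebra.adjoin A (G : Set C) ≤ B'.map ψ' := Algebra.adjoin_le fun x hx =>
      ⟨l x, Algebra.subset_adjoin (Finset.mem_union_left _ (Finset.mem_image_of_mem l hx)), hl x⟩
    obtain ⟨b, hb, hbc⟩ := hle (hG ▸ Algebra.mem_top : c ∈ Algebra.adjoin A (G : Set C))
    exact ⟨b, hb, hbc⟩
  have key : ∀ n : ℕ, ∀ b : B, ∃ b₀ ∈ B', b - b₀ ∈ RingHom.ker ψ ^ n := by
    intro n
    induction n with
    | zero => exact fun b => ⟨0, zero_mem _, by simp⟩
    | succ n ih =>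
      intro b
      obtain ⟨b₀, hb₀, hb⟩ := hlift (ψ b)
      have hI : b - b₀ ∈ Ideal.span (H : Set B) := by
        rw [show Ideal.span (H : Set B) = RingHom.ker ψ from hH, RingHom.mem_ker, map_sub, hb, sub_self]
      suffices hsuf : ∀ x ∈ Ideal.span (H : Set B), ∃ y ∈ B', x - y ∈ RingHom.ker ψ ^ (n + 1) by
        obtain ⟨y, hy, hxy⟩ := hsuf _ hI
        exact ⟨b₀ + y, add_mem hb₀ hy, by rwa [← sub_sub]⟩
      intro x hx
      induction hx using Submodule.span_induction with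
      | mem x hx => exact ⟨x, hHB hx, by simp⟩
      | zero => exact ⟨0, zero_mem _, by simp⟩
      | add x y _ _ hx hy =>
        obtain ⟨a, ha, hxa⟩ := hx; obtain ⟨c, hc, hyc⟩ := hy
        exact ⟨a + c, add_mem ha hc, by rw [add_sub_add_comm]; exact add_mem hxa hyc⟩
      | smul r x hx' hx =>
        obtain ⟨a, ha, hxa⟩ := hx
        obtain ⟨r₀, hr₀, hr⟩ := ih r
        refine ⟨r₀ * a, mul_mem hr₀ ha, ?_⟩
        have hxker : x ∈ RingHom.ker ψ := hH ▸ hx'
        rw [smul_eq_mul, show r * x - r₀ * a = (r - r₀) * x + r₀ * (x - a) by ring, pow_succ]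
        refine add_mem (Ideal.mul_mem_mul hr hxker) (Ideal.mul_mem_left _ _ ?_)
        rwa [← pow_succ]
  refine ⟨⟨G.image l ∪ H, eq_top_iff.2 fun b _ => ?_⟩⟩
  obtain ⟨n, hn⟩ := hn
  obtain ⟨b₀, hb₀, hb⟩ := key n b
  rw [hn, Ideal.zero_eq_bot, Ideal.mem_bot, sub_eq_zero] at hb
  exact hb ▸ hb₀

theorem locallyOfFiniteType_iff_comp {Y₀ Y X : Scheme.{u}} (i : Y₀ ⟶ Y) [IsClosedImmersion i] (F : Y ⟶ X)
    (hinil : ∀ U : Y.affineOpens, IsNilpotent (i.ker.ideal U))
    (hfg : ∀ U : Y.affineOpens, (i.ker.ideal U).FG) :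
    LocallyOfFiniteType F ↔ LocallyOfFiniteType (i ≫ F) := by
  refine ⟨fun _ => inferInstance, fun hc => ?_⟩
  rw [HasRingHomProperty.iff_appLE (P := @LocallyOfFiniteType)]
  intro U V e
  have haff : IsAffineOpen (i ⁻¹ᵁ V.1) := V.2.preimage i
  have hsurj : Function.Surjective (i.app V.1) := i.app_surjective V.1 V.2
  have hker : RingHom.ker (i.app V.1).hom = i.ker.ideal V := (Scheme.Hom.ker_apply i V).symm
  refine finiteType_of_nilpotent (F.appLE U V e).hom (i.app V.1).hom hsurj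
    (hker ▸ hinil V) (hker ▸ hfg V) ?_
  have h := (i ≫ F).finiteType_appLE U.2 haff (fun z hz => e hz)
  convert h using 1
  rw [← CommRingCat.hom_comp, Scheme.Hom.app_eq_appLE, Scheme.Hom.appLE_comp_appLE]

theorem locallyOfFiniteType_iff_of_thickening {X X₀ Y Y₀ : Scheme.{u}}
    (F : Y ⟶ X) (F₀ : Y₀ ⟶ X₀) (i : Y₀ ⟶ Y) (j : X₀ ⟶ X) [IsClosedImmersion i] [IsClosedImmersion j]
    (hinil : ∀ U : Y.affineOpens, IsNilpotent (i.ker.ideal U))
    (hfg : ∀ U : Y.affineOpens, (i.ker.ideal U).FG) (w : F₀ ≫ j = i ≫ F) :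
    LocallyOfFiniteType F ↔ LocallyOfFiniteType F₀ := by
  rw [locallyOfFiniteType_iff_comp i F hinil hfg, ← w]
  exact ⟨fun _ => locallyOfFiniteType_of_comp F₀ j, fun _ => inferInstance⟩

theorem lfp_iff_lft {X Y : Scheme.{u}} [IsLocallyNoetherian X] (f : Y ⟶ X) :
    LocallyOfFinitePresentation f ↔ LocallyOfFiniteType f := by
  refine ⟨fun _ => inferInstance, fun _ => ?_⟩
  rw [HasRingHomProperty.iff_appLE (P := @LocallyOfFinitePresentation)]
  intro U V e
  haveI : IsNoetherianRing Γ(X, U.1) := IsLocallyNoetherian.component_noetherian U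
  exact RingHom.FinitePresentation.of_finiteType.1 (f.finiteType_appLE U.2 V.2 e)

end GrothLib.ThickFT6
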